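import Mathlib

set_option autoImplicit false
set_option linter.unusedSectionVars false
set_option linter.unusedVariables false
set_option linter.unusedSimpArgs false
set_option linter.style.haveILetI false
set_option maxHeartbeats 800000

/-!
# Functions on the integers killed by an iterated difference operator

A function `ℤ → ℚ` is *polynomial-like* when some iterate of the backward difference operator kills
it.  Polynomial functions are polynomial-like, and a polynomial-like function vanishing in all
large degrees vanishes identically.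
-/

namespace Groth.Agent.Lib.Helper6.GSF

open Polynomial

/-- the backward difference operator -/
def bd (f : ℤ → ℚ) : ℤ → ℚ := fun n => f n - f (n - 1)

/-- translation of the argument -/
def sh (c : ℤ) (f : ℤ → ℚ) : ℤ → ℚ := fun n => f (n - c)

/-- some iterated backward difference vanishes -/
def IsPolyFun (f : ℤ → ℚ) : Prop := ∃ k : ℕ, bd^[k] f = 0

lemma bd_apply (f : ℤ → ℚ) (n : ℤ) : bd f n = f n - f (n - 1) := rfl

lemma sh_apply (c : ℤ) (f : ℤ → ℚ) (n : ℤ) : sh c f n = f (n - c) := rfl

lemma bd_zero : bd 0 = 0 := by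
  funext n
  simp [bd]

lemma bd_add (f g : ℤ → ℚ) : bd (f + g) = bd f + bd g := by
  funext n
  simp only [bd, Pi.add_apply]
  ring

lemma bd_neg (f : ℤ → ℚ) : bd (-f) = -bd f := by
  funext n
  simp only [bd, Pi.neg_apply]
  ring

lemma bd_sub (f g : ℤ → ℚ) : bd (f - g) = bd f - bd g := by
  funext n
  simp only [bd, Pi.sub_apply]
  ring

lemma bd_sh (c : ℤ) (f : ℤ → ℚ) : bd (sh c f) = sh c (bd f) := by
  funext n
  simp only [bd, sh]
  have h : n - 1 - c = n - c - 1 := by ring
  rw [h]

lemma iter_zero (k : ℕ) : bd^[k] 0 = 0 := by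
  induction k with
  | zero => rfl
  | succ k ih => rw [Function.iterate_succ_apply, bd_zero, ih]

lemma iter_add (k : ℕ) (f g : ℤ → ℚ) : bd^[k] (f + g) = bd^[k] f + bd^[k] g := by
  induction k generalizing f g with
  | zero => rfl
  | succ k ih => rw [Function.iterate_succ_apply, bd_add, ih, ← Function.iterate_succ_apply,
      ← Function.iterate_succ_apply]

lemma iter_neg (k : ℕ) (f : ℤ → ℚ) : bd^[k] (-f) = -bd^[k] f := by
  induction k generalizing f with
  | zero => rfl
  | succ k ih => rw [Function.iterate_succ_apply, bd_neg, ih, ← Function.iterate_succ_apply]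

lemma iter_sh (k : ℕ) (c : ℤ) (f : ℤ → ℚ) : bd^[k] (sh c f) = sh c (bd^[k] f) := by
  induction k generalizing f with
  | zero => rfl
  | succ k ih => rw [Function.iterate_succ_apply, bd_sh, ih, ← Function.iterate_succ_apply]

lemma sh_zero_fun (c : ℤ) : sh c 0 = 0 := by
  funext n
  rfl

lemma iter_of_le {k l : ℕ} (h : k ≤ l) {f : ℤ → ℚ} (hf : bd^[k] f = 0) : bd^[l] f = 0 := by
  obtain ⟨j, rfl⟩ := Nat.exists_eq_add_of_le h
  rw [add_comm, Function.iterate_add_apply, hf, iter_zero]

lemma isPolyFun_zero : IsPolyFun 0 := ⟨0, rfl⟩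

lemma IsPolyFun.add {f g : ℤ → ℚ} (hf : IsPolyFun f) (hg : IsPolyFun g) : IsPolyFun (f + g) := by
  obtain ⟨k, hk⟩ := hf
  obtain ⟨l, hl⟩ := hg
  refine ⟨max k l, ?_⟩
  rw [iter_add, iter_of_le (le_max_left k l) hk, iter_of_le (le_max_right k l) hl, add_zero]

lemma IsPolyFun.neg {f : ℤ → ℚ} (hf : IsPolyFun f) : IsPolyFun (-f) := by
  obtain ⟨k, hk⟩ := hf
  exact ⟨k, by rw [iter_neg, hk, neg_zero]⟩

lemma IsPolyFun.sub {f g : ℤ → ℚ} (hf : IsPolyFun f) (hg : IsPolyFun g) : IsPolyFun (f - g) := by
  rw [sub_eq_add_neg]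
  exact hf.add hg.neg

lemma IsPolyFun.sh {f : ℤ → ℚ} (hf : IsPolyFun f) (c : ℤ) : IsPolyFun (sh c f) := by
  obtain ⟨k, hk⟩ := hf
  exact ⟨k, by rw [iter_sh, hk, sh_zero_fun]⟩

lemma IsPolyFun.of_bd {f : ℤ → ℚ} (hf : IsPolyFun (bd f)) : IsPolyFun f := by
  obtain ⟨k, hk⟩ := hf
  exact ⟨k + 1, by rw [Function.iterate_succ_apply]; exact hk⟩

/-- a polynomial-like function vanishing in all large degrees vanishes -/
theorem eq_zero_of_eventually {g : ℤ → ℚ} (hg : IsPolyFun g) (N : ℤ) (hN : ∀ n, N ≤ n → g n = 0) :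
    ∀ n, g n = 0 := by
  obtain ⟨k, hk⟩ := hg
  induction k generalizing g N with
  | zero =>
    intro n
    have : g = 0 := hk
    rw [this]
    rfl
  | succ k ih =>
    rw [Function.iterate_succ_apply] at hk
    have h1 : ∀ n, bd g n = 0 := by
      apply ih (N := N + 1) _ hk
      intro n hn
      rw [bd_apply, hN n (by omega), hN (n - 1) (by omega), sub_zero]
    have h2 : ∀ n, g n = g (n - 1) := by
      intro n
      have := h1 n
      rw [bd_apply] at this
      linarith
    have h3 : ∀ j : ℕ, ∀ n, g n = g (n + j) := by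
      intro j
      induction j with
      | zero => intro n; simp
      | succ j ihj =>
        intro n
        rw [ihj n, h2 (n + ((j + 1 : ℕ) : ℤ))]
        congr 1
        push_cast
        ring
    intro n
    rw [h3 (N - n).toNat n]
    apply hN
    have := Int.self_le_toNat (N - n)
    omega

/-- evaluation of a rational polynomial at integers -/
noncomputable def ev (P : ℚ[X]) : ℤ → ℚ := fun n => P.eval (n : ℚ)

lemma ev_apply (P : ℚ[X]) (n : ℤ) : ev P n = P.eval (n : ℚ) := rfl

lemma bd_ev (P : ℚ[X]) : bd (ev P) = ev (P - taylor (-1) P) := by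
  funext n
  simp only [bd, ev, eval_sub, taylor_eval]
  push_cast
  ring_nf

lemma ev_zero : ev 0 = 0 := by
  funext n
  simp [ev]

lemma iter_ev (d : ℕ) : ∀ P : ℚ[X], (P = 0 ∨ P.natDegree < d) → bd^[d] (ev P) = 0 := by
  induction d with
  | zero =>
    intro P hP
    rcases hP with rfl | h
    · exact ev_zero
    · exact absurd h (Nat.not_lt_zero _)
  | succ d ih =>
    intro P hP
    rw [Function.iterate_succ_apply, bd_ev]
    apply ih
    by_cases hP0 : P = 0
    · left
      rw [hP0]
      simp
    · rcases hP with h | h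
      · exact absurd h hP0
      · by_cases hQ : P - taylor (-1) P = 0
        · exact Or.inl hQ
        · right
          have h1 : (P - taylor (-1) P).degree < P.degree :=
            degree_sub_lt_left (degree_taylor P (-1)).symm hP0 (leadingCoeff_taylor (-1) P).symm
          have h2 := natDegree_lt_natDegree hQ h1
          omega

/-- polynomial functions are polynomial-like -/
theorem isPolyFun_ev (P : ℚ[X]) : IsPolyFun (ev P) :=
  ⟨P.natDegree + 1, iter_ev (P.natDegree + 1) P (Or.inr (Nat.lt_succ_self _))⟩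

/-- a polynomial-like function agreeing with a polynomial in all large degrees agrees with it
everywhere -/
theorem eq_ev_of_eventually {f : ℤ → ℚ} (hf : IsPolyFun f) (P : ℚ[X]) (N : ℤ)
    (hN : ∀ n, N ≤ n → f n = P.eval (n : ℚ)) : ∀ n, f n = P.eval (n : ℚ) := by
  have h1 : IsPolyFun (f - ev P) := hf.sub (isPolyFun_ev P)
  have h2 := eq_zero_of_eventually h1 N (fun n hn => by
    simp only [Pi.sub_apply, ev_apply, hN n hn, sub_self])
  intro n
  have := h2 n
  simp only [Pi.sub_apply, ev_apply] at this
  linarith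

end Groth.Agent.Lib.Helper6.GSF
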