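import Mathlib

set_option autoImplicit false
set_option linter.unusedSectionVars false
set_option linter.unusedVariables false
set_option linter.unusedSimpArgs false
set_option linter.style.haveILetI false
set_option maxHeartbeats 800000

/-!
# The alternating sum of lengths along a long exact sequence
-/

universe u v

namespace Groth.Agent.Lib.Helper6.GSF

section One

variable {R₀ : Type v} [CommRing R₀] {A B : Type u} [AddCommGroup A] [Module R₀ A]
  [AddCommGroup B] [Module R₀ B]

/-- the length as an integer -/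
noncomputable def ilen (R₀ : Type v) [CommRing R₀] (A : Type u) [AddCommGroup A] [Module R₀ A] : ℤ :=
  ((Module.length R₀ A).toNat : ℤ)

lemma ilen_eq_of_equiv (e : A ≃ₗ[R₀] B) : ilen R₀ A = ilen R₀ B := by
  unfold ilen
  rw [e.length_eq]

lemma ilen_eq_zero_of_subsingleton [Subsingleton A] : ilen R₀ A = 0 := by
  unfold ilen
  rw [Module.length_eq_zero]
  rfl

/-- rank–nullity for lengths -/
lemma ilen_eq_ker_add_range (f : A →ₗ[R₀] B) (hA : IsFiniteLength R₀ A) :
    ilen R₀ A = ilen R₀ (LinearMap.ker f) + ilen R₀ (LinearMap.range f) := by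
  have h1 : Module.length R₀ A =
      Module.length R₀ (LinearMap.ker f) + Module.length R₀ (LinearMap.range f) :=
    Module.length_eq_add_of_exact (LinearMap.ker f).subtype f.rangeRestrict
      (Submodule.subtype_injective _) f.surjective_rangeRestrict
      (by
        intro x
        constructor
        · intro hx
          refine ⟨⟨x, ?_⟩, rfl⟩
          have := congrArg Subtype.val hx
          simpa using this
        · rintro ⟨y, rfl⟩
          apply Subtype.ext
          simp)
  have hk : Module.length R₀ (LinearMap.ker f) ≠ ⊤ :=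
    Module.length_ne_top_iff.mpr (IsFiniteLength.of_injective hA (Submodule.subtype_injective _))
  have hr : Module.length R₀ (LinearMap.range f) ≠ ⊤ :=
    Module.length_ne_top_iff.mpr (IsFiniteLength.of_surjective hA f.surjective_rangeRestrict)
  unfold ilen
  rw [h1, ENat.toNat_add hk hr]
  push_cast
  rfl

end One

section Tele

/-- a telescoping alternating sum -/
lemma tele (κ : ℕ → ℤ) (D : ℕ) :
    ∑ i ∈ Finset.range (D + 1), (-1 : ℤ) ^ i * (κ i + κ (i + 1)) =
      κ 0 + (-1 : ℤ) ^ D * κ (D + 1) := by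
  induction D with
  | zero => simp
  | succ D ih =>
    rw [Finset.sum_range_succ, ih]
    ring

end Tele

section LES

variable {R₀ : Type v} [CommRing R₀]
  (A B C : ℕ → Type u) [∀ i, AddCommGroup (A i)] [∀ i, Module R₀ (A i)]
  [∀ i, AddCommGroup (B i)] [∀ i, Module R₀ (B i)]
  [∀ i, AddCommGroup (C i)] [∀ i, Module R₀ (C i)]
  (f : ∀ i, A i →ₗ[R₀] B i) (g : ∀ i, B i →ₗ[R₀] C i) (δ : ∀ i, C i →ₗ[R₀] A (i + 1))

/-- the Euler characteristic of a bounded long exact sequence of modules of finite length vanishes -/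
theorem euler_les (hf0 : Function.Injective (f 0))
    (hfg : ∀ i, LinearMap.range (f i) = LinearMap.ker (g i))
    (hgδ : ∀ i, LinearMap.range (g i) = LinearMap.ker (δ i))
    (hδf : ∀ i, LinearMap.range (δ i) = LinearMap.ker (f (i + 1)))
    (hA : ∀ i, IsFiniteLength R₀ (A i)) (hB : ∀ i, IsFiniteLength R₀ (B i))
    (hC : ∀ i, IsFiniteLength R₀ (C i)) (D : ℕ) (hAD : Subsingleton (A (D + 1))) :
    ∑ i ∈ Finset.range (D + 1),
      (-1 : ℤ) ^ i * (ilen R₀ (A i) - ilen R₀ (B i) + ilen R₀ (C i)) = 0 := by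
  set κ : ℕ → ℤ := fun i => ilen R₀ (LinearMap.ker (f i)) with hκ
  have hstep : ∀ i, ilen R₀ (A i) - ilen R₀ (B i) + ilen R₀ (C i) = κ i + κ (i + 1) := by
    intro i
    have h1 := ilen_eq_ker_add_range (f i) (hA i)
    have h2 := ilen_eq_ker_add_range (g i) (hB i)
    have h3 := ilen_eq_ker_add_range (δ i) (hC i)
    rw [hfg i] at h1
    rw [hgδ i] at h2
    rw [hδf i] at h3
    simp only [hκ]
    linarith
  have h0 : κ 0 = 0 := by
    simp only [hκ]
    have : LinearMap.ker (f 0) = ⊥ := LinearMap.ker_eq_bot.mpr hf0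
    rw [this]
    exact ilen_eq_zero_of_subsingleton
  have hD : κ (D + 1) = 0 := by
    simp only [hκ]
    haveI := hAD
    exact ilen_eq_zero_of_subsingleton
  calc ∑ i ∈ Finset.range (D + 1),
        (-1 : ℤ) ^ i * (ilen R₀ (A i) - ilen R₀ (B i) + ilen R₀ (C i))
      = ∑ i ∈ Finset.range (D + 1), (-1 : ℤ) ^ i * (κ i + κ (i + 1)) := by
        apply Finset.sum_congr rfl
        intro i _
        rw [hstep i]
    _ = κ 0 + (-1 : ℤ) ^ D * κ (D + 1) := tele κ D
    _ = 0 := by rw [h0, hD]; ring

/-- the three alternating sums of a bounded long exact sequence -/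
theorem euler_les' (hf0 : Function.Injective (f 0))
    (hfg : ∀ i, LinearMap.range (f i) = LinearMap.ker (g i))
    (hgδ : ∀ i, LinearMap.range (g i) = LinearMap.ker (δ i))
    (hδf : ∀ i, LinearMap.range (δ i) = LinearMap.ker (f (i + 1)))
    (hA : ∀ i, IsFiniteLength R₀ (A i)) (hB : ∀ i, IsFiniteLength R₀ (B i))
    (hC : ∀ i, IsFiniteLength R₀ (C i)) (D : ℕ) (hAD : Subsingleton (A (D + 1))) :
    ∑ i ∈ Finset.range (D + 1), (-1 : ℤ) ^ i * ilen R₀ (B i) =
      ∑ i ∈ Finset.range (D + 1), (-1 : ℤ) ^ i * ilen R₀ (A i) +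
        ∑ i ∈ Finset.range (D + 1), (-1 : ℤ) ^ i * ilen R₀ (C i) := by
  have h := euler_les A B C f g δ hf0 hfg hgδ hδf hA hB hC D hAD
  have h2 : ∑ i ∈ Finset.range (D + 1),
      (-1 : ℤ) ^ i * (ilen R₀ (A i) - ilen R₀ (B i) + ilen R₀ (C i)) =
      ∑ i ∈ Finset.range (D + 1), (-1 : ℤ) ^ i * ilen R₀ (A i) -
        ∑ i ∈ Finset.range (D + 1), (-1 : ℤ) ^ i * ilen R₀ (B i) +
        ∑ i ∈ Finset.range (D + 1), (-1 : ℤ) ^ i * ilen R₀ (C i) := by
    rw [← Finset.sum_sub_distrib, ← Finset.sum_add_distrib]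
    apply Finset.sum_congr rfl
    intro i _
    ring
  rw [h2] at h
  linarith

end LES

section SES

variable {R₀ : Type v} [CommRing R₀] {A B C : Type u} [AddCommGroup A] [Module R₀ A]
  [AddCommGroup B] [Module R₀ B] [AddCommGroup C] [Module R₀ C]

/-- additivity of the integer length on short exact sequences -/
lemma ilen_ses (f : A →ₗ[R₀] B) (g : B →ₗ[R₀] C) (hf : Function.Injective f)
    (hg : Function.Surjective g) (hfg : Function.Exact f g)
    (hA : IsFiniteLength R₀ A) (hC : IsFiniteLength R₀ C) :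
    ilen R₀ B = ilen R₀ A + ilen R₀ C := by
  have h1 := Module.length_eq_add_of_exact f g hf hg hfg
  have hk : Module.length R₀ A ≠ ⊤ := Module.length_ne_top_iff.mpr hA
  have hr : Module.length R₀ C ≠ ⊤ := Module.length_ne_top_iff.mpr hC
  unfold ilen
  rw [h1, ENat.toNat_add hk hr]
  push_cast
  rfl

end SES

end Groth.Agent.Lib.Helper6.GSF
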