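import Mathlib
import Groth.Prelude.Def_GrLC
import Groth.Prelude.Def_Wider
import Groth.Agent.Lib.Helper9.GrLC.Fg
import Groth.Agent.Lib.Helper9.GrLC.Reg
import Groth.Agent.Lib.Helper6.GSF.GSa
import Groth.Agent.Lib.Helper6.GSF.GSb

set_option autoImplicit false
set_option linter.unusedSectionVars false
set_option linter.unusedVariables false
set_option linter.unusedSimpArgs false
set_option linter.style.haveILetI false
set_option maxHeartbeats 800000

/-!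
# Hilbert functions and lengths of the pieces of graded local cohomology: additivity
-/

universe u

namespace Groth.Agent.Lib.Helper6.GSF

open CategoryTheory DirectSum Groth.Agent.Helper9.GrLCLib Groth.Agent.Helper8.LC
open Groth.Agent.Helper9.GrLCLib.Van Groth.Agent.Helper9.GrLCLib.VanZ
open Groth.Agent.Helper9.GrLCLib.Fg Groth.Agent.Helper9.GrLCLib.FinZ

variable {R : Type u} [CommRing R] [IsNoetherianRing R] (𝒜 : ℤ → AddSubgroup R) [GradedRing 𝒜]

section Defs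

/-- the Hilbert function of a graded module -/
noncomputable def hf (X : GrLC.GMod.{u} 𝒜) (n : ℤ) : ℤ :=
  ilen (GrLC.deg0 𝒜) (GrLC.comp 𝒜 X.gr n)

/-- the length of a piece of local cohomology -/
noncomputable def hl (a : HomogeneousIdeal 𝒜) (X : GrLC.GMod.{u} 𝒜) (i : ℕ) (n : ℤ) : ℤ :=
  ilen (GrLC.deg0 𝒜) (LCcomp 𝒜 X.gr a.toIdeal i n)

/-- the alternating sum of the lengths of the pieces of local cohomology -/
noncomputable def lsum (a : HomogeneousIdeal 𝒜) (D : ℕ) (X : GrLC.GMod.{u} 𝒜) (n : ℤ) : ℤ :=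
  ∑ i ∈ Finset.range (D + 1), (-1 : ℤ) ^ i * hl 𝒜 a X i n

/-- Hilbert function minus the Euler characteristic of local cohomology -/
noncomputable def chi (a : HomogeneousIdeal 𝒜) (D : ℕ) (X : GrLC.GMod.{u} 𝒜) : ℤ → ℚ :=
  fun n => ((hf 𝒜 X n - lsum 𝒜 a D X n : ℤ) : ℚ)

end Defs

section Fin

variable [IsArtinianRing (GrLC.deg0 𝒜)]

lemma isFiniteLength_of_isNoetherian (N : Type u) [AddCommGroup N] [Module (GrLC.deg0 𝒜) N]
    [IsNoetherian (GrLC.deg0 𝒜) N] : IsFiniteLength (GrLC.deg0 𝒜) N :=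
  isFiniteLength_iff_isNoetherian_isArtinian.mpr ⟨inferInstance, inferInstance⟩

lemma isFiniteLength_comp (X : GrLC.GMod.{u} 𝒜) [Module.Finite R X.carrier] (n : ℤ) :
    IsFiniteLength (GrLC.deg0 𝒜) (GrLC.comp 𝒜 X.gr n) := by
  haveI : IsNoetherian R X.carrier := isNoetherian_of_isNoetherianRing_of_finite R X.carrier
  haveI := isNoetherian_comp_of_isNoetherian 𝒜 X.gr n
  exact isFiniteLength_of_isNoetherian 𝒜 _

lemma isFiniteLength_LCcomp (a : HomogeneousIdeal 𝒜)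
    (ha : a.toIdeal = Ideal.span (⋃ n ∈ Set.Ioi (0 : ℤ), (𝒜 n : Set R)))
    (X : GrLC.GMod.{u} 𝒜) [Module.Finite R X.carrier] (i : ℕ) (n : ℤ) :
    IsFiniteLength (GrLC.deg0 𝒜) (LCcomp 𝒜 X.gr a.toIdeal i n) := by
  haveI := finP 𝒜 a ha i X n
  exact isFiniteLength_of_isNoetherian 𝒜 _

end Fin

section SES

variable [IsArtinianRing (GrLC.deg0 𝒜)]

variable (X₁ X₂ X₃ : GrLC.GMod.{u} 𝒜)
  (j : X₁.carrier →ₗ[R] X₂.carrier) (p : X₂.carrier →ₗ[R] X₃.carrier)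
  (hjg : GrLC.IsGrHom X₁.gr X₂.gr j) (hpg : GrLC.IsGrHom X₂.gr X₃.gr p)
  (hj : Function.Injective j) (hp : Function.Surjective p)
  (hex : LinearMap.ker p = LinearMap.range j)

include hjg hpg hj hp hex in
/-- additivity of the Hilbert function -/
theorem hf_ses [Module.Finite R X₁.carrier] [Module.Finite R X₃.carrier] (n : ℤ) :
    hf 𝒜 X₂ n = hf 𝒜 X₁ n + hf 𝒜 X₃ n := by
  let jn : GrLC.comp 𝒜 X₁.gr n →ₗ[GrLC.deg0 𝒜] GrLC.comp 𝒜 X₂.gr n :=
    (j.restrictScalars (GrLC.deg0 𝒜)).restrict (p := GrLC.comp 𝒜 X₁.gr n)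
      (q := GrLC.comp 𝒜 X₂.gr n) (fun x hx => hjg n x hx)
  let pn : GrLC.comp 𝒜 X₂.gr n →ₗ[GrLC.deg0 𝒜] GrLC.comp 𝒜 X₃.gr n :=
    (p.restrictScalars (GrLC.deg0 𝒜)).restrict (p := GrLC.comp 𝒜 X₂.gr n)
      (q := GrLC.comp 𝒜 X₃.gr n) (fun x hx => hpg n x hx)
  have hjn : Function.Injective jn := by
    intro x y hxy
    apply Subtype.ext
    apply hj
    exact congrArg Subtype.val hxy
  have hpn : Function.Surjective pn := by
    rintro ⟨y, hy⟩
    obtain ⟨w, hw⟩ := hp y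
    have hy' : y ∈ X₃.gr (n + 0) := by rw [add_zero]; exact hy
    obtain ⟨w', hw', hpw'⟩ := exists_homog_preimage X₂.gr X₃.gr
      ((isGrHomDeg_zero_iff X₂.gr X₃.gr).mpr hpg) hy' w hw
    exact ⟨⟨w', hw'⟩, Subtype.ext hpw'⟩
  have hexn : Function.Exact jn pn := by
    rintro ⟨x, hx⟩
    constructor
    · intro h0
      have h1 : p x = 0 := congrArg Subtype.val h0
      have h2 : x ∈ LinearMap.range j := by rw [← hex]; exact h1
      obtain ⟨w, hw⟩ := h2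
      have hx' : x ∈ X₂.gr (n + 0) := by rw [add_zero]; exact hx
      obtain ⟨w', hw', hjw'⟩ := exists_homog_preimage X₁.gr X₂.gr
        ((isGrHomDeg_zero_iff X₁.gr X₂.gr).mpr hjg) hx' w hw
      exact ⟨⟨w', hw'⟩, Subtype.ext hjw'⟩
    · rintro ⟨⟨w, hw⟩, hwx⟩
      apply Subtype.ext
      have h1 : j w = x := congrArg Subtype.val hwx
      change p x = 0
      rw [← h1]
      have : j w ∈ LinearMap.ker p := by rw [hex]; exact ⟨w, rfl⟩
      exact this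
  exact ilen_ses jn pn hjn hpn hexn (isFiniteLength_comp 𝒜 X₁ n) (isFiniteLength_comp 𝒜 X₃ n)

include hjg hpg hj hp hex in
/-- additivity of the Euler characteristic of local cohomology -/
theorem lsum_ses (a : HomogeneousIdeal 𝒜)
    (ha : a.toIdeal = Ideal.span (⋃ n ∈ Set.Ioi (0 : ℤ), (𝒜 n : Set R)))
    (D : ℕ) (hcd : LocCoh.CdLE R a.toIdeal D)
    [Module.Finite R X₁.carrier] [Module.Finite R X₂.carrier] [Module.Finite R X₃.carrier]
    (n : ℤ) : lsum 𝒜 a D X₂ n = lsum 𝒜 a D X₁ n + lsum 𝒜 a D X₃ n := by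
  have h : p ∘ₗ j = 0 := by
    apply LinearMap.ext
    intro m
    have : j m ∈ LinearMap.ker p := by rw [hex]; exact ⟨m, rfl⟩
    exact this
  have hS := sesOf_shortExact j p h hj hp hex
  let f : ∀ i : ℕ, LCcomp 𝒜 X₁.gr a.toIdeal i n →ₗ[GrLC.deg0 𝒜] LCcomp 𝒜 X₂.gr a.toIdeal i n :=
    fun i => compMap 𝒜 X₁.gr X₂.gr a.toIdeal i i n n
      ((localCohomology a.toIdeal i).map (ModuleCat.ofHom j)).hom
      (fun x hx => LCgr_map_zero 𝒜 X₁.gr X₂.gr a.toIdeal i n j hjg x hx)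
  let g : ∀ i : ℕ, LCcomp 𝒜 X₂.gr a.toIdeal i n →ₗ[GrLC.deg0 𝒜] LCcomp 𝒜 X₃.gr a.toIdeal i n :=
    fun i => compMap 𝒜 X₂.gr X₃.gr a.toIdeal i i n n
      ((localCohomology a.toIdeal i).map (ModuleCat.ofHom p)).hom
      (fun x hx => LCgr_map_zero 𝒜 X₂.gr X₃.gr a.toIdeal i n p hpg x hx)
  let δ' : ∀ i : ℕ, LCcomp 𝒜 X₃.gr a.toIdeal i n →ₗ[GrLC.deg0 𝒜]
      LCcomp 𝒜 X₁.gr a.toIdeal (i + 1) n :=
    fun i => compMap 𝒜 X₃.gr X₁.gr a.toIdeal i (i + 1) n n (δ a.toIdeal i hS)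
      (fun x hx => LCgr_δ 𝒜 X₁.gr X₂.gr X₃.gr j p h hS hjg hpg a.toIdeal i n x hx)
  have hf0 : Function.Injective (f 0) := by
    intro x y hxy
    apply Subtype.ext
    have h1 : ((localCohomology a.toIdeal 0).map (ModuleCat.ofHom j)) x.1 =
        ((localCohomology a.toIdeal 0).map (ModuleCat.ofHom j)) y.1 := congrArg Subtype.val hxy
    have h2 := congrArg (ev0 a.toIdeal (ModuleCat.of R X₂.carrier)) h1
    rw [ev0_map, ev0_map] at h2
    exact ev0_injective a.toIdeal (ModuleCat.of R X₁.carrier) (hj h2)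
  have hfg : ∀ i, LinearMap.range (f i) = LinearMap.ker (g i) := by
    intro i
    ext ⟨v, hv⟩
    constructor
    · rintro ⟨⟨w, hw⟩, hfw⟩
      rw [LinearMap.mem_ker]
      apply Subtype.ext
      have h1 : ((localCohomology a.toIdeal i).map (ModuleCat.ofHom j)) w = v :=
        congrArg Subtype.val hfw
      change ((localCohomology a.toIdeal i).map (ModuleCat.ofHom p)) v = 0
      rw [← h1]
      exact (exact_f_g a.toIdeal i hS _).mpr ⟨w, rfl⟩
    · intro hv0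
      have h0 : ((localCohomology a.toIdeal i).map (ModuleCat.ofHom p)) v = 0 :=
        congrArg Subtype.val hv0
      obtain ⟨w, hw, hwv⟩ := exists_LCgr_of_map_g_eq_zero 𝒜 X₁.gr X₂.gr j p h hS hjg a i n v hv h0
      exact ⟨⟨w, hw⟩, Subtype.ext hwv⟩
  have hgδ : ∀ i, LinearMap.range (g i) = LinearMap.ker (δ' i) := by
    intro i
    ext ⟨v, hv⟩
    constructor
    · rintro ⟨⟨w, hw⟩, hgw⟩
      rw [LinearMap.mem_ker]
      apply Subtype.ext
      have h1 : ((localCohomology a.toIdeal i).map (ModuleCat.ofHom p)) w = v :=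
        congrArg Subtype.val hgw
      change δ a.toIdeal i hS v = 0
      rw [← h1]
      exact (exact_g_δ a.toIdeal i hS _).mpr ⟨w, rfl⟩
    · intro hv0
      have h0 : δ a.toIdeal i hS v = 0 := congrArg Subtype.val hv0
      obtain ⟨w, hw, hwv⟩ := exists_LCgr_of_δ_eq_zero 𝒜 X₂.gr X₃.gr j p h hS hpg a i n v hv h0
      exact ⟨⟨w, hw⟩, Subtype.ext hwv⟩
  have hδf : ∀ i, LinearMap.range (δ' i) = LinearMap.ker (f (i + 1)) := by
    intro i
    ext ⟨v, hv⟩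
    constructor
    · rintro ⟨⟨w, hw⟩, hδw⟩
      rw [LinearMap.mem_ker]
      apply Subtype.ext
      have h1 : δ a.toIdeal i hS w = v := congrArg Subtype.val hδw
      change ((localCohomology a.toIdeal (i + 1)).map (ModuleCat.ofHom j)) v = 0
      rw [← h1]
      exact (exact_δ_f a.toIdeal i hS _).mpr ⟨w, rfl⟩
    · intro hv0
      have h0 : ((localCohomology a.toIdeal (i + 1)).map (ModuleCat.ofHom j)) v = 0 :=
        congrArg Subtype.val hv0
      obtain ⟨w, hw, hwv⟩ := exists_LCgr_of_map_f_eq_zero 𝒜 X₁.gr X₂.gr X₃.gr j p h hS hjg hpg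
        a i n v hv h0
      refine ⟨⟨w, hw⟩, ?_⟩
      apply Subtype.ext
      exact (compMap_apply 𝒜 X₃.gr X₁.gr a.toIdeal i (i + 1) n n (δ a.toIdeal i hS) _ ⟨w, hw⟩).trans
        hwv
  have hAD : Subsingleton (LCcomp 𝒜 X₁.gr a.toIdeal (D + 1) n) := by
    haveI : Subsingleton (LocCoh.H a.toIdeal (D + 1) X₁.carrier) :=
      hcd X₁.carrier (D + 1) (Nat.lt_succ_self D)
    refine ⟨fun x y => Subtype.ext ?_⟩
    exact Subsingleton.elim (x.1 : LocCoh.H a.toIdeal (D + 1) X₁.carrier) y.1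
  exact euler_les' (R₀ := GrLC.deg0 𝒜)
    (fun i => LCcomp 𝒜 X₁.gr a.toIdeal i n) (fun i => LCcomp 𝒜 X₂.gr a.toIdeal i n)
    (fun i => LCcomp 𝒜 X₃.gr a.toIdeal i n) f g δ' hf0 hfg hgδ hδf
    (fun i => isFiniteLength_LCcomp 𝒜 a ha X₁ i n) (fun i => isFiniteLength_LCcomp 𝒜 a ha X₂ i n)
    (fun i => isFiniteLength_LCcomp 𝒜 a ha X₃ i n) D hAD

include hjg hpg hj hp hex in
/-- additivity of `chi` -/
theorem chi_ses (a : HomogeneousIdeal 𝒜)
    (ha : a.toIdeal = Ideal.span (⋃ n ∈ Set.Ioi (0 : ℤ), (𝒜 n : Set R)))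
    (D : ℕ) (hcd : LocCoh.CdLE R a.toIdeal D)
    [Module.Finite R X₁.carrier] [Module.Finite R X₂.carrier] [Module.Finite R X₃.carrier] :
    chi 𝒜 a D X₂ = chi 𝒜 a D X₁ + chi 𝒜 a D X₃ := by
  funext n
  simp only [chi, Pi.add_apply]
  rw [hf_ses 𝒜 X₁ X₂ X₃ j p hjg hpg hj hp hex n,
    lsum_ses 𝒜 X₁ X₂ X₃ j p hjg hpg hj hp hex a ha D hcd n]
  push_cast
  ring

end SES

end Groth.Agent.Lib.Helper6.GSF
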