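import Mathlib
import Groth.Prelude.Def_GrLC
import Groth.Prelude.Def_Wider
import Groth.Agent.Lib.Helper9.GrLC.Fg
import Groth.Agent.Lib.Helper9.GrLC.Reg
import Groth.Agent.Lib.Helper6.GSF.GSc

set_option autoImplicit false
set_option linter.unusedSectionVars false
set_option linter.unusedVariables false
set_option linter.unusedSimpArgs false
set_option linter.style.haveILetI false
set_option maxHeartbeats 800000

/-!
# The Grothendieck–Serre formula: Hilbert function minus Hilbert polynomial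
-/

universe u

namespace Groth.Agent.Lib.Helper6.GSF

open CategoryTheory DirectSum Groth.Agent.Helper9.GrLCLib Groth.Agent.Helper8.LC
open Groth.Agent.Helper9.GrLCLib.Van Groth.Agent.Helper9.GrLCLib.VanZ
open Groth.Agent.Helper9.GrLCLib.Fg Groth.Agent.Helper9.GrLCLib.FinZ
open Polynomial

variable {R : Type u} [CommRing R] [IsNoetherianRing R] (𝒜 : ℤ → AddSubgroup R) [GradedRing 𝒜]

section Shift

variable (X : GrLC.GMod.{u} 𝒜) (d : ℤ)

/-- the pieces of a shifted module -/
noncomputable def shiftCompEquiv (n : ℤ) :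
    GrLC.comp 𝒜 (shiftGMod X d).gr n ≃ₗ[GrLC.deg0 𝒜] GrLC.comp 𝒜 X.gr (n - d) where
  toFun x := ⟨x.1, (mem_shiftGMod_gr X d n x.1).mp x.2⟩
  invFun x := ⟨x.1, (mem_shiftGMod_gr X d n x.1).mpr x.2⟩
  map_add' _ _ := rfl
  map_smul' _ _ := rfl
  left_inv _ := rfl
  right_inv _ := rfl

lemma hf_shift (n : ℤ) : hf 𝒜 (shiftGMod X d) n = hf 𝒜 X (n - d) :=
  ilen_eq_of_equiv (shiftCompEquiv 𝒜 X d n)

/-- the pieces of the local cohomology of a shifted module -/
noncomputable def shiftLCEquiv (J : Ideal R) (i : ℕ) (n : ℤ) :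
    LCcomp 𝒜 (shiftGMod X d).gr J i n ≃ₗ[GrLC.deg0 𝒜] LCcomp 𝒜 X.gr J i (n - d) where
  toFun x := ⟨x.1, (mem_LCgr_shift 𝒜 X d J i n x.1).mp x.2⟩
  invFun x := ⟨x.1, (mem_LCgr_shift 𝒜 X d J i n x.1).mpr x.2⟩
  map_add' _ _ := rfl
  map_smul' _ _ := rfl
  left_inv _ := rfl
  right_inv _ := rfl

lemma hl_shift (a : HomogeneousIdeal 𝒜) (i : ℕ) (n : ℤ) :
    hl 𝒜 a (shiftGMod X d) i n = hl 𝒜 a X i (n - d) :=
  ilen_eq_of_equiv (shiftLCEquiv 𝒜 X d a.toIdeal i n)

lemma chi_shift (a : HomogeneousIdeal 𝒜) (D : ℕ) :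
    chi 𝒜 a D (shiftGMod X d) = sh d (chi 𝒜 a D X) := by
  funext n
  simp only [chi, sh, lsum, hf_shift, hl_shift]

end Shift

section Torsion

variable (X : GrLC.GMod.{u} 𝒜) (a : HomogeneousIdeal 𝒜)
  (hkill : ∀ r ∈ a.toIdeal, ∀ m : X.carrier, r • m = 0)

include hkill in
lemma isPowerTorsion_of_kill : LocCoh.IsPowerTorsion a.toIdeal X.carrier := by
  intro m
  refine ⟨1, fun r hr => ?_⟩
  rw [pow_one] at hr
  exact hkill r hr m

include hkill in
lemma hl_zero_of_kill (n : ℤ) : hl 𝒜 a X 0 n = hf 𝒜 X n := by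
  let f : LCcomp 𝒜 X.gr a.toIdeal 0 n →ₗ[GrLC.deg0 𝒜] GrLC.comp 𝒜 X.gr n :=
    ((ev0 a.toIdeal (ModuleCat.of R X.carrier)).restrictScalars (GrLC.deg0 𝒜)).restrict
      (p := LCcomp 𝒜 X.gr a.toIdeal 0 n) (q := GrLC.comp 𝒜 X.gr n)
      (fun x hx => (mem_LCgr_zero 𝒜 X.gr a.toIdeal n x).mp hx)
  have hf1 : Function.Injective f := by
    intro x y hxy
    apply Subtype.ext
    apply ev0_injective a.toIdeal (ModuleCat.of R X.carrier)
    exact congrArg Subtype.val hxy
  have hf2 : Function.Surjective f := by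
    rintro ⟨y, hy⟩
    obtain ⟨v, hv⟩ := exists_ev0_eq a.toIdeal (ModuleCat.of R X.carrier) y
      (isPowerTorsion_of_kill 𝒜 X a hkill y)
    have hv' : v ∈ LCgr 𝒜 X.gr a.toIdeal 0 n := by
      rw [mem_LCgr_zero, hv]
      exact hy
    exact ⟨⟨v, hv'⟩, Subtype.ext hv⟩
  exact ilen_eq_of_equiv (LinearEquiv.ofBijective f ⟨hf1, hf2⟩)

include hkill in
lemma hl_succ_of_kill (i : ℕ) (n : ℤ) : hl 𝒜 a X (i + 1) n = 0 := by
  haveI : Subsingleton (LocCoh.H a.toIdeal (i + 1) X.carrier) :=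
    subsingleton_of_isPowerTorsion a.toIdeal (i + 1) (Nat.succ_pos i) X.carrier
      (isPowerTorsion_of_kill 𝒜 X a hkill)
  haveI : Subsingleton (LCcomp 𝒜 X.gr a.toIdeal (i + 1) n) := by
    refine ⟨fun x y => Subtype.ext ?_⟩
    exact Subsingleton.elim (x.1 : LocCoh.H a.toIdeal (i + 1) X.carrier) y.1
  exact ilen_eq_zero_of_subsingleton

include hkill in
lemma chi_of_kill (D : ℕ) : chi 𝒜 a D X = 0 := by
  funext n
  simp only [chi, lsum, Pi.zero_apply]
  rw [Finset.sum_range_succ']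
  have h1 : ∑ k ∈ Finset.range D, (-1 : ℤ) ^ (k + 1) * hl 𝒜 a X (k + 1) n = 0 := by
    apply Finset.sum_eq_zero
    intro k _
    rw [hl_succ_of_kill 𝒜 X a hkill k n, mul_zero]
  rw [h1, hl_zero_of_kill 𝒜 X a hkill n]
  simp

end Torsion

section Induction

variable [IsArtinianRing (GrLC.deg0 𝒜)]

/-- `chi` is polynomial-like on all of `ℤ` -/
theorem isPolyFun_chi (a : HomogeneousIdeal 𝒜)
    (ha : a.toIdeal = Ideal.span (⋃ n ∈ Set.Ioi (0 : ℤ), (𝒜 n : Set R)))
    (D : ℕ) (hcd : LocCoh.CdLE R a.toIdeal D) (s : ℕ) :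
    ∀ (X : GrLC.GMod.{u} 𝒜) [Module.Finite R X.carrier] (S : Finset R),
      (∀ x ∈ S, x ∈ 𝒜 1) → S.card ≤ s →
      a.toIdeal ≤ Ideal.span (S : Set R) ⊔ Module.annihilator R X.carrier →
      IsPolyFun (chi 𝒜 a D X) := by
  classical
  induction s with
  | zero =>
    intro X _ S hS1 hcard hle
    have hS : S = ∅ := Finset.card_eq_zero.mp (Nat.le_zero.mp hcard)
    rw [hS, Finset.coe_empty, Ideal.span_empty, bot_sup_eq] at hle
    have hkill : ∀ r ∈ a.toIdeal, ∀ m : X.carrier, r • m = 0 := fun r hr m =>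
      Module.mem_annihilator.mp (hle hr) m
    rw [chi_of_kill 𝒜 X a hkill D]
    exact isPolyFun_zero
  | succ s ih =>
    intro X _ S hS1 hcard hle
    by_cases hS : S = ∅
    · rw [hS, Finset.coe_empty, Ideal.span_empty, bot_sup_eq] at hle
      have hkill : ∀ r ∈ a.toIdeal, ∀ m : X.carrier, r • m = 0 := fun r hr m =>
        Module.mem_annihilator.mp (hle hr) m
      rw [chi_of_kill 𝒜 X a hkill D]
      exact isPolyFun_zero
    · obtain ⟨x, hxS⟩ := Finset.nonempty_iff_ne_empty.mpr hS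
      have hx : x ∈ 𝒜 1 := hS1 x hxS
      haveI : IsNoetherian R X.carrier := isNoetherian_of_isNoetherianRing_of_finite R X.carrier
      -- the modules
      haveI hKfin : Module.Finite R (Reg.KX 𝒜 X x hx).carrier :=
        Module.Finite.of_injective (Reg.incK 𝒜 X x hx) (subMap_injective X _ _)
      haveI hBfin : Module.Finite R (Reg.XB 𝒜 X x hx).carrier :=
        Module.Finite.of_surjective (Reg.prB 𝒜 X x hx) (quotMap_surjective X _ _)
      haveI hBsfin : Module.Finite R (shiftGMod (Reg.XB 𝒜 X x hx) 1).carrier := hBfin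
      haveI hYfin : Module.Finite R (Qx 𝒜 X 1 x hx).carrier :=
        Module.Finite.of_surjective (qxMap 𝒜 X 1 x hx) (qxMap_surjective 𝒜 X 1 x hx)
      -- the two short exact sequences
      have e1 : chi 𝒜 a D X = chi 𝒜 a D (Reg.KX 𝒜 X x hx) + chi 𝒜 a D (Reg.XB 𝒜 X x hx) :=
        chi_ses 𝒜 (Reg.KX 𝒜 X x hx) X (Reg.XB 𝒜 X x hx) (Reg.incK 𝒜 X x hx) (Reg.prB 𝒜 X x hx)
          (isGrHom_subMap X _ _) (isGrHom_quotMap X _ _) (subMap_injective X _ _)
          (quotMap_surjective X _ _) ((ker_quotMap X _ _).trans (range_subMap X _ _).symm)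
          a ha D hcd
      have hker : LinearMap.ker (qxMap 𝒜 X 1 x hx) =
          LinearMap.range (x • (LinearMap.id : X.carrier →ₗ[R] X.carrier)) :=
        ker_qxMap 𝒜 X 1 x hx
      have e2 : chi 𝒜 a D X =
          chi 𝒜 a D (shiftGMod (Reg.XB 𝒜 X x hx) 1) + chi 𝒜 a D (Qx 𝒜 X 1 x hx) :=
        chi_ses 𝒜 (shiftGMod (Reg.XB 𝒜 X x hx) 1) X (Qx 𝒜 X 1 x hx) (Reg.mulB 𝒜 X x hx)
          (qxMap 𝒜 X 1 x hx) (Reg.isGrHom_mulB 𝒜 X x hx) (isGrHom_qxMap 𝒜 X 1 x hx)
          (Reg.mulB_injective 𝒜 X x hx) (qxMap_surjective 𝒜 X 1 x hx)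
          (by rw [hker, Reg.range_mulB]) a ha D hcd
      rw [chi_shift] at e2
      -- annihilators
      have hincK : Function.Injective (Reg.incK 𝒜 X x hx) := subMap_injective X _ _
      have hmemK : ∀ m : (Reg.KX 𝒜 X x hx).carrier, x • (Reg.incK 𝒜 X x hx m) = 0 := fun m =>
        (Reg.mem_kerX 𝒜 X x _).mp (subMap_mem X _ _ m)
      have hxK : x ∈ Module.annihilator R (Reg.KX 𝒜 X x hx).carrier := by
        rw [Module.mem_annihilator]
        intro m
        apply hincK
        rw [map_smul, map_zero]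
        exact hmemK m
      have hXK : Module.annihilator R X.carrier ≤
          Module.annihilator R (Reg.KX 𝒜 X x hx).carrier := by
        intro r hr
        rw [Module.mem_annihilator] at hr ⊢
        intro m
        apply hincK
        rw [map_smul, map_zero]
        exact hr _
      have hxY : x ∈ Module.annihilator R (Qx 𝒜 X 1 x hx).carrier := by
        rw [Module.mem_annihilator]
        intro m
        obtain ⟨m', rfl⟩ := qxMap_surjective 𝒜 X 1 x hx m
        rw [← map_smul]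
        have : x • m' ∈ LinearMap.ker (qxMap 𝒜 X 1 x hx) := by
          rw [hker]
          exact ⟨m', rfl⟩
        exact this
      have hXY : Module.annihilator R X.carrier ≤
          Module.annihilator R (Qx 𝒜 X 1 x hx).carrier := by
        intro r hr
        rw [Module.mem_annihilator] at hr ⊢
        intro m
        obtain ⟨m', rfl⟩ := qxMap_surjective 𝒜 X 1 x hx m
        rw [← map_smul, hr m', map_zero]
      have hspan : Ideal.span (S : Set R) =
          Ideal.span {x} ⊔ Ideal.span ((S.erase x : Finset R) : Set R) := by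
        rw [← Ideal.span_insert, ← Finset.coe_insert, Finset.insert_erase hxS]
      have hcard' : (S.erase x).card ≤ s := by
        rw [Finset.card_erase_of_mem hxS]
        omega
      have hS1' : ∀ y ∈ S.erase x, y ∈ 𝒜 1 := fun y hy => hS1 y (Finset.mem_of_mem_erase hy)
      have hleK : a.toIdeal ≤ Ideal.span ((S.erase x : Finset R) : Set R) ⊔
          Module.annihilator R (Reg.KX 𝒜 X x hx).carrier := by
        refine hle.trans ?_
        rw [hspan]
        refine sup_le (sup_le ?_ le_sup_left) (hXK.trans le_sup_right)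
        rw [Ideal.span_singleton_le_iff_mem]
        exact le_sup_right (a := Ideal.span ((S.erase x : Finset R) : Set R)) hxK
      have hleY : a.toIdeal ≤ Ideal.span ((S.erase x : Finset R) : Set R) ⊔
          Module.annihilator R (Qx 𝒜 X 1 x hx).carrier := by
        refine hle.trans ?_
        rw [hspan]
        refine sup_le (sup_le ?_ le_sup_left) (hXY.trans le_sup_right)
        rw [Ideal.span_singleton_le_iff_mem]
        exact le_sup_right (a := Ideal.span ((S.erase x : Finset R) : Set R)) hxY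
      have pK := ih (Reg.KX 𝒜 X x hx) (S.erase x) hS1' hcard' hleK
      have pY := ih (Qx 𝒜 X 1 x hx) (S.erase x) hS1' hcard' hleY
      apply IsPolyFun.of_bd
      have hbd : bd (chi 𝒜 a D X) =
          chi 𝒜 a D (Qx 𝒜 X 1 x hx) - sh 1 (chi 𝒜 a D (Reg.KX 𝒜 X x hx)) := by
        funext n
        have h1 := congrFun e1 (n - 1)
        have h2 := congrFun e2 n
        simp only [Pi.add_apply, sh_apply] at h1 h2
        simp only [bd_apply, Pi.sub_apply, sh_apply]
        rw [h2, h1]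
        ring
      rw [hbd]
      exact pY.sub (pK.sh 1)

end Induction

section Formula

variable [IsArtinianRing (GrLC.deg0 𝒜)]

/-- **The Grothendieck–Serre formula** for the pieces of local cohomology with support in the
irrelevant ideal of a standard graded ring with Artinian degree-zero part. -/
theorem gs_formula (a : HomogeneousIdeal 𝒜)
    (ha : a.toIdeal = Ideal.span (⋃ n ∈ Set.Ioi (0 : ℤ), (𝒜 n : Set R)))
    (hstd : a.toIdeal = Ideal.span ((𝒜 1 : AddSubgroup R) : Set R))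
    (D : ℕ) (hcd : LocCoh.CdLE R a.toIdeal D)
    (X : GrLC.GMod.{u} 𝒜) [Module.Finite R X.carrier] (P : ℚ[X])
    (hP : ∃ N : ℤ, ∀ n : ℤ, N ≤ n → P.eval (n : ℚ) = (hf 𝒜 X n : ℚ)) (n : ℤ) :
    (hf 𝒜 X n : ℚ) - P.eval (n : ℚ) = (lsum 𝒜 a D X n : ℚ) := by
  classical
  obtain ⟨N, hN⟩ := hP
  -- finitely many generators of degree one
  have hfg : (Submodule.span R ((𝒜 1 : AddSubgroup R) : Set R)).FG := IsNoetherian.noetherian _
  obtain ⟨S, hSsub, hSspan⟩ := (Submodule.fg_span_iff_fg_span_finset_subset _).mp hfg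
  have hle : a.toIdeal ≤ Ideal.span (S : Set R) ⊔ Module.annihilator R X.carrier := by
    rw [hstd]
    change Submodule.span R _ ≤ _
    rw [hSspan]
    exact le_sup_left
  have hpoly := isPolyFun_chi 𝒜 a ha D hcd S.card X S (fun x hx => hSsub hx) le_rfl hle
  -- vanishing in high degrees
  have hvan : ∀ i : ℕ, ∃ s : ℤ, ∀ k, s ≤ k → LCgr 𝒜 X.gr a.toIdeal i k = ⊥ :=
    fun i => vanP 𝒜 a ha i X
  choose sv hsv using hvan
  obtain ⟨B, hB⟩ := Finset.exists_le ((Finset.range (D + 1)).image sv)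
  have hev : ∀ k, max N B ≤ k → chi 𝒜 a D X k = P.eval (k : ℚ) := by
    intro k hk
    have hk1 : N ≤ k := le_trans (le_max_left _ _) hk
    have hk2 : B ≤ k := le_trans (le_max_right _ _) hk
    have hz : lsum 𝒜 a D X k = 0 := by
      unfold lsum
      apply Finset.sum_eq_zero
      intro i hi
      have h1 : sv i ≤ k := le_trans (hB (sv i) (Finset.mem_image_of_mem _ hi)) hk2
      have h2 := hsv i k h1
      haveI : Subsingleton (LCcomp 𝒜 X.gr a.toIdeal i k) := by
        refine ⟨fun x y => Subtype.ext ?_⟩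
        have hx : (x : LocCoh.H a.toIdeal i X.carrier) ∈ LCgr 𝒜 X.gr a.toIdeal i k := x.2
        have hy : (y : LocCoh.H a.toIdeal i X.carrier) ∈ LCgr 𝒜 X.gr a.toIdeal i k := y.2
        rw [h2] at hx hy
        rw [AddSubgroup.mem_bot.mp hx, AddSubgroup.mem_bot.mp hy]
      have h3 : hl 𝒜 a X i k = 0 := ilen_eq_zero_of_subsingleton
      rw [h3, mul_zero]
    simp only [chi]
    rw [hz, sub_zero, hN k hk1]
  have hall := eq_ev_of_eventually hpoly P (max N B) hev n
  simp only [chi] at hall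
  push_cast at hall
  linarith

end Formula

end Groth.Agent.Lib.Helper6.GSF
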