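import Mathlib
import Groth.Prelude.Def_GrLC
import Groth.Prelude.Def_GrSyz
import Groth.Prelude.Def_Wider
import Groth.Agent.Lib.Helper6.CMReg.CRu
import Groth.Agent.Lib.Helper6.GSF.GSd

set_option autoImplicit false
set_option linter.unusedSectionVars false
set_option linter.unusedVariables false
set_option linter.unusedSimpArgs false
set_option linter.style.haveILetI false
set_option maxHeartbeats 800000

/-!
# The Grothendieck–Serre formula for a *injective resolution and the *maximal ideal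
-/

universe u

namespace Groth.Agent.Lib.Helper6.GSF

open CategoryTheory DirectSum Groth.Agent.Helper9.GrLCLib Groth.Agent.Helper8.LC
open Groth.Agent.Helper9.GrLCLib.Van Groth.Agent.Helper9.GrLCLib.VanZ
open Groth.Agent.Helper9.GrLCLib.Fg Groth.Agent.Helper9.GrLCLib.FinZ
open Groth.Agent.Lib.Helper6.CMReg
open Polynomial

variable {R : Type u} [CommRing R] [IsNoetherianRing R] (𝒜 : ℤ → AddSubgroup R) [GradedRing 𝒜]
variable {M : Type u} [AddCommGroup M] [Module R M] (ℳ : ℤ → AddSubgroup M)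
  [DirectSum.Decomposition ℳ] [SetLike.GradedSMul 𝒜 ℳ]

section Theta

/-- the pieces computed from a *injective resolution and the intrinsic pieces have the same length -/
lemma ilen_Hcomp (E : GrLC.StarInjRes 𝒜 ℳ) (a : HomogeneousIdeal 𝒜) (i : ℕ) (n : ℤ) :
    ilen (GrLC.deg0 𝒜) (E.Hcomp a i n) = ilen (GrLC.deg0 𝒜) (LCcomp 𝒜 ℳ a.toIdeal i n) := by
  obtain ⟨Θ, hΘ⟩ := exists_theta_LCgr 𝒜 ℳ a E i
  let f : E.Hcomp a i n →ₗ[GrLC.deg0 𝒜] LCcomp 𝒜 ℳ a.toIdeal i n :=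
    ((Θ.toLinearMap).restrictScalars (GrLC.deg0 𝒜)).restrict (p := E.Hcomp a i n)
      (q := LCcomp 𝒜 ℳ a.toIdeal i n) (fun x hx => (hΘ n x).mp hx)
  have hf1 : Function.Injective f := by
    intro x y hxy
    apply Subtype.ext
    apply Θ.injective
    exact congrArg Subtype.val hxy
  have hf2 : Function.Surjective f := by
    rintro ⟨y, hy⟩
    have h1 : Θ.symm y ∈ E.Hcomp a i n := by
      rw [hΘ n, LinearEquiv.apply_symm_apply]
      exact hy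
    exact ⟨⟨Θ.symm y, h1⟩, Subtype.ext (Θ.apply_symm_apply y)⟩
  exact ilen_eq_of_equiv (LinearEquiv.ofBijective f ⟨hf1, hf2⟩)

end Theta

section Gam

variable (E : GrLC.StarInjRes 𝒜 ℳ) (a b : HomogeneousIdeal 𝒜)
  (hgam : ∀ (X : Type u) [AddCommGroup X] [Module R X],
    GrLC.gam a.toIdeal X = GrLC.gam b.toIdeal X)

include hgam in
lemma cocyc_eq (i : ℕ) : E.cocyc a i = E.cocyc b i := by
  unfold GrLC.StarInjRes.cocyc
  rw [hgam]

include hgam in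
lemma cobdy_eq (i : ℕ) : E.cobdy a i = E.cobdy b i := by
  cases i with
  | zero => rfl
  | succ n =>
    show (GrLC.gam a.toIdeal (E.X n).carrier).map (E.d n) =
      (GrLC.gam b.toIdeal (E.X n).carrier).map (E.d n)
    rw [hgam]

/-- the comparison of the cohomology modules for two ideals with the same torsion functor -/
noncomputable def hEquiv (i : ℕ) : E.H a i ≃ₗ[R] E.H b i :=
  Submodule.Quotient.equiv _ _ (LinearEquiv.ofEq _ _ (cocyc_eq 𝒜 ℳ E a b hgam i)) (by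
    ext z
    constructor
    · rintro ⟨w, hw, rfl⟩
      have hw' : (w : (E.X i).carrier) ∈ E.cobdy a i := hw
      rw [cobdy_eq 𝒜 ℳ E a b hgam i] at hw'
      exact hw'
    · intro hz
      have hz' : (z : (E.X i).carrier) ∈ E.cobdy b i := hz
      rw [← cobdy_eq 𝒜 ℳ E a b hgam i] at hz'
      refine ⟨(LinearEquiv.ofEq _ _ (cocyc_eq 𝒜 ℳ E a b hgam i)).symm z, hz', ?_⟩
      exact LinearEquiv.apply_symm_apply _ z)

lemma hEquiv_toH (i : ℕ) (z : E.cocyc a i) :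
    hEquiv 𝒜 ℳ E a b hgam i (E.toH a i z) =
      E.toH b i (LinearEquiv.ofEq _ _ (cocyc_eq 𝒜 ℳ E a b hgam i) z) := rfl

include hgam in
lemma ilen_Hcomp_gam (i : ℕ) (n : ℤ) :
    ilen (GrLC.deg0 𝒜) (E.Hcomp a i n) = ilen (GrLC.deg0 𝒜) (E.Hcomp b i n) := by
  have hmem : ∀ x ∈ E.Hcomp a i n, hEquiv 𝒜 ℳ E a b hgam i x ∈ E.Hcomp b i n := by
    rintro x ⟨z, hz, rfl⟩
    exact ⟨LinearEquiv.ofEq _ _ (cocyc_eq 𝒜 ℳ E a b hgam i) z, hz, (hEquiv_toH 𝒜 ℳ E a b hgam i z).symm⟩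
  let f : E.Hcomp a i n →ₗ[GrLC.deg0 𝒜] E.Hcomp b i n :=
    (((hEquiv 𝒜 ℳ E a b hgam i).toLinearMap).restrictScalars (GrLC.deg0 𝒜)).restrict
      (p := E.Hcomp a i n) (q := E.Hcomp b i n) hmem
  have hf1 : Function.Injective f := by
    intro x y hxy
    apply Subtype.ext
    apply (hEquiv 𝒜 ℳ E a b hgam i).injective
    exact congrArg Subtype.val hxy
  have hf2 : Function.Surjective f := by
    rintro ⟨y, z', hz', rfl⟩
    let z : E.cocyc a i := (LinearEquiv.ofEq _ _ (cocyc_eq 𝒜 ℳ E a b hgam i)).symm z'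
    have hz : (z : (E.X i).carrier) ∈ (E.X i).gr n := hz'
    refine ⟨⟨E.toH a i z, ⟨z, hz, rfl⟩⟩, ?_⟩
    apply Subtype.ext
    change hEquiv 𝒜 ℳ E a b hgam i (E.toH a i z) = E.toH b i z'
    rw [hEquiv_toH, LinearEquiv.apply_symm_apply]
  exact ilen_eq_of_equiv (LinearEquiv.ofBijective f ⟨hf1, hf2⟩)

end Gam

section Main

/-- **The Grothendieck–Serre formula** (statement form) -/
theorem main_17770 (R : Type u) [CommRing R] [IsNoetherianRing R] (𝒜 : ℤ → AddSubgroup R)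
    [GradedRing 𝒜] (hpos : ∀ n : ℤ, n < 0 → 𝒜 n = ⊥)
    (hstd : Ideal.span (⋃ n ∈ Set.Ioi (0 : ℤ), (𝒜 n : Set R)) =
      Ideal.span ((𝒜 1 : AddSubgroup R) : Set R))
    [IsArtinianRing (GrLC.deg0 𝒜)] (m : HomogeneousIdeal 𝒜) (hm : GrLC.IsStarLocal 𝒜 m) (d : ℕ)
    (hd : ringKrullDim R = d) (M : Type u) [AddCommGroup M] [Module R M] [Module.Finite R M]
    (ℳ : ℤ → AddSubgroup M) [DirectSum.Decomposition ℳ] [SetLike.GradedSMul 𝒜 ℳ]
    (E : GrLC.StarInjRes 𝒜 ℳ) (P : Polynomial ℚ)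
    (hP : ∃ N : ℤ, ∀ n : ℤ, N ≤ n → P.eval (n : ℚ) =
      ((Module.length (GrLC.deg0 𝒜) (GrLC.comp 𝒜 ℳ n)).toNat : ℚ)) (n : ℤ) :
    ((Module.length (GrLC.deg0 𝒜) (GrLC.comp 𝒜 ℳ n)).toNat : ℚ) - P.eval (n : ℚ) =
      ∑ i ∈ Finset.range (d + 1),
        (-1 : ℚ) ^ i * ((Module.length (GrLC.deg0 𝒜) (E.Hcomp m i n)).toNat : ℚ) := by
  set a : HomogeneousIdeal 𝒜 := GrSyz.irrel 𝒜 with hadef
  have ha : a.toIdeal = Ideal.span (⋃ n ∈ Set.Ioi (0 : ℤ), (𝒜 n : Set R)) := irrel_toIdeal 𝒜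
  have ham : a.toIdeal ≤ m.toIdeal := irrel_le_of_isStarLocal 𝒜 hpos m hm
  obtain ⟨N, hN⟩ := exists_pow_le_irrel 𝒜 hpos m hm
  have hgam : ∀ (X : Type u) [AddCommGroup X] [Module R X],
      GrLC.gam a.toIdeal X = GrLC.gam m.toIdeal X :=
    fun X _ _ => gam_eq_of_le_of_pow_le a.toIdeal m.toIdeal ham N hN X
  let X : GrLC.GMod.{u} 𝒜 := GrLC.GMod.of 𝒜 M ℳ
  haveI : Module.Finite R X.carrier := ‹Module.Finite R M›
  have hcd : LocCoh.CdLE R a.toIdeal d := cdLE_of_ringKrullDim_le a.toIdeal d hd.le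
  have hP' : ∃ N : ℤ, ∀ n : ℤ, N ≤ n → P.eval (n : ℚ) = (hf 𝒜 X n : ℚ) := by
    obtain ⟨N₀, hN₀⟩ := hP
    refine ⟨N₀, fun k hk => ?_⟩
    rw [hN₀ k hk]
    exact (Int.cast_natCast _).symm
  have key := gs_formula 𝒜 a ha (ha.trans hstd) d hcd X P hP' n
  have h1 : ((Module.length (GrLC.deg0 𝒜) (GrLC.comp 𝒜 ℳ n)).toNat : ℚ) = (hf 𝒜 X n : ℚ) :=
    (Int.cast_natCast _).symm
  rw [h1, key]
  unfold lsum
  push_cast
  apply Finset.sum_congr rfl
  intro i _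
  congr 1
  have h2 : hl 𝒜 a X i n = ilen (GrLC.deg0 𝒜) (E.Hcomp m i n) :=
    (ilen_Hcomp 𝒜 ℳ E a i n).symm.trans (ilen_Hcomp_gam 𝒜 ℳ E a m hgam i n)
  rw [h2]
  exact Int.cast_natCast _

end Main

end Groth.Agent.Lib.Helper6.GSF
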