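import Mathlib
import Groth.Prelude.Def_GrLC
import Groth.Prelude.Def_GrSyz
import Groth.Prelude.Def_Wider
import Groth.Prelude.Def_CAlg
import Groth.Agent.Lib.Helper6.CMReg.CRu
import Groth.Agent.Lib.Helper6.GSF.GSe

set_option autoImplicit false
set_option linter.unusedSectionVars false
set_option linter.unusedVariables false
set_option linter.unusedSimpArgs false
set_option linter.style.haveILetI false
set_option maxHeartbeats 800000

/-!
# Finite length of the pieces of graded local cohomology and the `a`-invariant of a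
Cohen–Macaulay standard graded ring via the Hilbert function
-/

universe u

namespace Groth.Agent.Lib.Helper6.GSF

open CategoryTheory DirectSum Groth.Agent.Helper9.GrLCLib Groth.Agent.Helper8.LC
open Groth.Agent.Helper9.GrLCLib.Van Groth.Agent.Helper9.GrLCLib.VanZ
open Groth.Agent.Helper9.GrLCLib.Fg Groth.Agent.Helper9.GrLCLib.FinZ
open Groth.Agent.Lib.Helper6.CMReg Groth.Agent.Helper8 Groth.Agent.Helper9
open Polynomial

section Gen

variable {R₀ : Type u} [CommRing R₀] {A : Type u} [AddCommGroup A] [Module R₀ A]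

lemma ilen_eq_zero_iff (hA : IsFiniteLength R₀ A) : ilen R₀ A = 0 ↔ Subsingleton A := by
  unfold ilen
  rw [Int.natCast_eq_zero, ENat.toNat_eq_zero, Module.length_eq_zero_iff]
  constructor
  · rintro (h | h)
    · exact h
    · exact absurd h (Module.length_ne_top_iff.mpr hA)
  · intro h
    exact Or.inl h

end Gen

variable {R : Type u} [CommRing R] [IsNoetherianRing R] (𝒜 : ℤ → AddSubgroup R) [GradedRing 𝒜]
variable {M : Type u} [AddCommGroup M] [Module R M] (ℳ : ℤ → AddSubgroup M)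
  [DirectSum.Decomposition ℳ] [SetLike.GradedSMul 𝒜 ℳ]

section Equivs

/-- the pieces computed from a *injective resolution are isomorphic to the intrinsic pieces -/
lemma nonempty_equiv_Hcomp (E : GrLC.StarInjRes 𝒜 ℳ) (a : HomogeneousIdeal 𝒜) (i : ℕ) (n : ℤ) :
    Nonempty (E.Hcomp a i n ≃ₗ[GrLC.deg0 𝒜] LCcomp 𝒜 ℳ a.toIdeal i n) := by
  obtain ⟨Θ, hΘ⟩ := exists_theta_LCgr 𝒜 ℳ a E i
  let f : E.Hcomp a i n →ₗ[GrLC.deg0 𝒜] LCcomp 𝒜 ℳ a.toIdeal i n :=
    ((Θ.toLinearMap).restrictScalars (GrLC.deg0 𝒜)).restrict (p := E.Hcomp a i n)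
      (q := LCcomp 𝒜 ℳ a.toIdeal i n) (fun x hx => (hΘ n x).mp hx)
  have hf1 : Function.Injective f := by
    intro x y hxy
    apply Subtype.ext
    apply Θ.injective
    exact congrArg Subtype.val hxy
  have hf2 : Function.Surjective f := by
    rintro ⟨y, hy⟩
    have h1 : Θ.symm y ∈ E.Hcomp a i n := by
      rw [hΘ n, LinearEquiv.apply_symm_apply]
      exact hy
    exact ⟨⟨Θ.symm y, h1⟩, Subtype.ext (Θ.apply_symm_apply y)⟩
  exact ⟨LinearEquiv.ofBijective f ⟨hf1, hf2⟩⟩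

variable (E : GrLC.StarInjRes 𝒜 ℳ) (a b : HomogeneousIdeal 𝒜)
  (hgam : ∀ (X : Type u) [AddCommGroup X] [Module R X],
    GrLC.gam a.toIdeal X = GrLC.gam b.toIdeal X)

include hgam in
lemma nonempty_equiv_Hcomp_gam (i : ℕ) (n : ℤ) :
    Nonempty (E.Hcomp a i n ≃ₗ[GrLC.deg0 𝒜] E.Hcomp b i n) := by
  have hmem : ∀ x ∈ E.Hcomp a i n, hEquiv 𝒜 ℳ E a b hgam i x ∈ E.Hcomp b i n := by
    rintro x ⟨z, hz, rfl⟩
    exact ⟨LinearEquiv.ofEq _ _ (cocyc_eq 𝒜 ℳ E a b hgam i) z, hz,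
      (hEquiv_toH 𝒜 ℳ E a b hgam i z).symm⟩
  let f : E.Hcomp a i n →ₗ[GrLC.deg0 𝒜] E.Hcomp b i n :=
    (((hEquiv 𝒜 ℳ E a b hgam i).toLinearMap).restrictScalars (GrLC.deg0 𝒜)).restrict
      (p := E.Hcomp a i n) (q := E.Hcomp b i n) hmem
  have hf1 : Function.Injective f := by
    intro x y hxy
    apply Subtype.ext
    apply (hEquiv 𝒜 ℳ E a b hgam i).injective
    exact congrArg Subtype.val hxy
  have hf2 : Function.Surjective f := by
    rintro ⟨y, z', hz', rfl⟩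
    let z : E.cocyc a i := (LinearEquiv.ofEq _ _ (cocyc_eq 𝒜 ℳ E a b hgam i)).symm z'
    have hz : (z : (E.X i).carrier) ∈ (E.X i).gr n := hz'
    refine ⟨⟨E.toH a i z, ⟨z, hz, rfl⟩⟩, ?_⟩
    apply Subtype.ext
    change hEquiv 𝒜 ℳ E a b hgam i (E.toH a i z) = E.toH b i z'
    rw [hEquiv_toH, LinearEquiv.apply_symm_apply]
  exact ⟨LinearEquiv.ofBijective f ⟨hf1, hf2⟩⟩

end Equivs

section StarLocal

variable [IsArtinianRing (GrLC.deg0 𝒜)] (hpos : ∀ n : ℤ, n < 0 → 𝒜 n = ⊥)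
  (m : HomogeneousIdeal 𝒜) (hm : GrLC.IsStarLocal 𝒜 m)

include hpos hm in
/-- the pieces of graded local cohomology with support in the *maximal ideal have finite length -/
theorem isFiniteLength_Hcomp [Module.Finite R M] (E : GrLC.StarInjRes 𝒜 ℳ) (i : ℕ) (n : ℤ) :
    IsFiniteLength (GrLC.deg0 𝒜) (E.Hcomp m i n) := by
  set a : HomogeneousIdeal 𝒜 := GrSyz.irrel 𝒜 with hadef
  have ha : a.toIdeal = Ideal.span (⋃ n ∈ Set.Ioi (0 : ℤ), (𝒜 n : Set R)) := irrel_toIdeal 𝒜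
  have ham : a.toIdeal ≤ m.toIdeal := irrel_le_of_isStarLocal 𝒜 hpos m hm
  obtain ⟨N, hN⟩ := exists_pow_le_irrel 𝒜 hpos m hm
  have hgam : ∀ (X : Type u) [AddCommGroup X] [Module R X],
      GrLC.gam a.toIdeal X = GrLC.gam m.toIdeal X :=
    fun X _ _ => gam_eq_of_le_of_pow_le a.toIdeal m.toIdeal ham N hN X
  let X : GrLC.GMod.{u} 𝒜 := GrLC.GMod.of 𝒜 M ℳ
  haveI : Module.Finite R X.carrier := ‹Module.Finite R M›
  have h1 : IsFiniteLength (GrLC.deg0 𝒜) (LCcomp 𝒜 ℳ a.toIdeal i n) :=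
    isFiniteLength_LCcomp 𝒜 a ha X i n
  obtain ⟨e1⟩ := nonempty_equiv_Hcomp 𝒜 ℳ E a i n
  obtain ⟨e2⟩ := nonempty_equiv_Hcomp_gam 𝒜 ℳ E a m hgam i n
  exact (IsFiniteLength.of_surjective h1 e1.symm.surjective).of_surjective e2.surjective

end StarLocal

section Main

/-- the `a`-invariant of a Cohen–Macaulay standard graded ring is the last degree where the Hilbert
function and the Hilbert polynomial differ -/
theorem main_17772 (R : Type u) [CommRing R] [LocCoh.IsCohenMacaulayRing R]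
    (𝒜 : ℤ → AddSubgroup R) [GradedRing 𝒜] (hpos : ∀ n : ℤ, n < 0 → 𝒜 n = ⊥)
    (hstd : Ideal.span (⋃ n ∈ Set.Ioi (0 : ℤ), (𝒜 n : Set R)) =
      Ideal.span ((𝒜 1 : AddSubgroup R) : Set R))
    [IsArtinianRing (GrLC.deg0 𝒜)] (m : HomogeneousIdeal 𝒜) (hm : GrLC.IsStarLocal 𝒜 m) (d : ℕ)
    (hd : ringKrullDim R = d) (I : GrLC.StarInjRes 𝒜 𝒜) (P : Polynomial ℚ)
    (hP : ∃ N : ℤ, ∀ n : ℤ, N ≤ n → P.eval (n : ℚ) =
      ((Module.length (GrLC.deg0 𝒜) (GrLC.comp 𝒜 𝒜 n)).toNat : ℚ)) :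
    GrLC.endDeg (I.Hgr m d) = ⨆ (n : ℤ) (_ : P.eval (n : ℚ) ≠
      ((Module.length (GrLC.deg0 𝒜) (GrLC.comp 𝒜 𝒜 n)).toNat : ℚ)),
        ((n : WithTop ℤ) : WithBot (WithTop ℤ)) := by
  have hmax : m.toIdeal.IsMaximal := Pos.isMaximal_of_isCoatom 𝒜 hpos m hm.1
  have hht : ringKrullDim R = m.toIdeal.height :=
    GrHt.ringKrullDim_eq_height_of_isStarLocal 𝒜 m hm
  have hht' : m.toIdeal.height = (d : ℕ∞) := by
    rw [hd] at hht
    exact_mod_cast hht.symm
  have hdepth : LocCoh.idealDepth m.toIdeal R = m.toIdeal.height :=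
    (Depth.isCohenMacaulayRing_iff_idealDepth_eq_height.mp inferInstance) m.toIdeal hmax.ne_top
  have hJM : m.toIdeal • (⊤ : Submodule R R) ≠ ⊤ := by
    intro h
    have h1 : (1 : R) ∈ m.toIdeal • (⊤ : Submodule R R) := by rw [h]; trivial
    have h2 : m.toIdeal • (⊤ : Submodule R R) ≤ m.toIdeal := by
      rw [Submodule.smul_le]
      intro r hr n _
      exact Ideal.mul_mem_right _ _ hr
    exact hmax.ne_top ((Ideal.eq_top_iff_one _).mpr (h2 h1))
  -- vanishing below the dimension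
  have hlow : ∀ (j : ℕ) (n : ℤ), j < d →
      ((Module.length (GrLC.deg0 𝒜) (I.Hcomp m j n)).toNat : ℚ) = 0 := by
    intro j n hj
    have hsub : Subsingleton (LocCoh.H m.toIdeal j R) := by
      apply subsingleton_of_lt_idealDepth m.toIdeal hJM j
      rw [hdepth, hht']
      exact_mod_cast hj
    obtain ⟨e⟩ := nonempty_equiv_Hcomp 𝒜 𝒜 I m j n
    haveI : Subsingleton (LCcomp 𝒜 𝒜 m.toIdeal j n) := by
      refine ⟨fun x y => Subtype.ext ?_⟩
      exact @Subsingleton.elim _ hsub (x.1 : LocCoh.H m.toIdeal j R) y.1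
    haveI : Subsingleton (I.Hcomp m j n) := e.toEquiv.subsingleton
    rw [Module.length_eq_zero]
    simp
  -- the formula
  have hform : ∀ n : ℤ,
      ((Module.length (GrLC.deg0 𝒜) (GrLC.comp 𝒜 𝒜 n)).toNat : ℚ) - P.eval (n : ℚ) =
        (-1 : ℚ) ^ d * ((Module.length (GrLC.deg0 𝒜) (I.Hcomp m d n)).toNat : ℚ) := by
    intro n
    rw [main_17770 R 𝒜 hpos hstd m hm d hd R 𝒜 I P hP n, Finset.sum_range_succ]
    have h0 : ∑ i ∈ Finset.range d, (-1 : ℚ) ^ i *
        ((Module.length (GrLC.deg0 𝒜) (I.Hcomp m i n)).toNat : ℚ) = 0 := by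
      apply Finset.sum_eq_zero
      intro i hi
      rw [hlow i n (Finset.mem_range.mp hi), mul_zero]
    rw [h0, zero_add]
  -- the two index sets agree
  have hiff : ∀ n : ℤ, I.Hgr m d n ≠ ⊥ ↔ P.eval (n : ℚ) ≠
      ((Module.length (GrLC.deg0 𝒜) (GrLC.comp 𝒜 𝒜 n)).toNat : ℚ) := by
    intro n
    have hfin : IsFiniteLength (GrLC.deg0 𝒜) (I.Hcomp m d n) :=
      isFiniteLength_Hcomp 𝒜 𝒜 hpos m hm I d n
    have h1 : I.Hgr m d n = ⊥ ↔ I.Hcomp m d n = ⊥ := by
      constructor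
      · intro h
        apply Submodule.toAddSubgroup_injective
        exact h
      · intro h
        change (I.Hcomp m d n).toAddSubgroup = ⊥
        rw [h]
        rfl
    have h2 : I.Hcomp m d n = ⊥ ↔ ilen (GrLC.deg0 𝒜) (I.Hcomp m d n) = 0 := by
      rw [ilen_eq_zero_iff hfin, Submodule.subsingleton_iff_eq_bot]
    have h3 : ilen (GrLC.deg0 𝒜) (I.Hcomp m d n) = 0 ↔
        ((Module.length (GrLC.deg0 𝒜) (I.Hcomp m d n)).toNat : ℚ) = 0 := by
      unfold ilen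
      constructor
      · intro h
        exact_mod_cast h
      · intro h
        exact_mod_cast h
    have h4 := hform n
    rw [not_iff_not, h1, h2, h3]
    constructor
    · intro h
      rw [h, mul_zero] at h4
      linarith
    · intro h
      rw [h, sub_self] at h4
      have h5 : (-1 : ℚ) ^ d ≠ 0 := pow_ne_zero _ (by norm_num)
      rcases mul_eq_zero.mp h4.symm with h6 | h6
      · exact absurd h6 h5
      · exact h6
  unfold GrLC.endDeg
  apply iSup_congr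
  intro n
  exact iSup_congr_Prop (hiff n) (fun _ => rfl)

end Main

end Groth.Agent.Lib.Helper6.GSF
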