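import Mathlib
import Groth.Prelude.Def_GrLC
import Groth.Prelude.Def_GrSyz
import Groth.Prelude.Def_Wider
import Groth.Prelude.Def_CAlg
import Groth.Agent.S16323
import Groth.Agent.Lib.Helper8.LC11
import Groth.Agent.Lib.Helper8.LC18
import Groth.Agent.Lib.Helper6.HilbDim.HDb
import Groth.Agent.Lib.Helper6.CMReg.CRn
import Groth.Agent.Lib.Helper6.GSF.GSf

set_option autoImplicit false
set_option linter.unusedSectionVars false
set_option linter.unusedVariables false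
set_option linter.unusedSimpArgs false
set_option linter.style.haveILetI false
set_option maxHeartbeats 800000

/-!
# Sharpness of the bound beyond which the Hilbert function of a Cohen–Macaulay graded module
over a polynomial ring agrees with its Hilbert polynomial
-/

universe u

namespace Groth.Agent.Lib.Helper6.GSF

open CategoryTheory DirectSum Groth.Agent.Helper9.GrLCLib Groth.Agent.Helper8.LC
open Groth.Agent.Helper9.GrLCLib.Van Groth.Agent.Helper9.GrLCLib.VanZ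
open Groth.Agent.Helper9.GrLCLib.Fg Groth.Agent.Helper9.GrLCLib.FinZ
open Groth.Agent.Lib.Helper6.CMReg Groth.Agent.Helper8 Groth.Agent.Helper9
open Groth.Agent.Lib.Helper6.HilbDim
open Polynomial

section Semi

/-- lengths agree along a semilinear bijection over a surjective ring homomorphism -/
lemma length_eq_of_semilinear {K₁ K₂ : Type*} [CommRing K₁] [CommRing K₂] (σ : K₁ →+* K₂)
    (hσ : Function.Surjective σ) {V₁ V₂ : Type*} [AddCommGroup V₁] [Module K₁ V₁]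
    [AddCommGroup V₂] [Module K₂ V₂] (f : V₁ →+ V₂) (hf : Function.Bijective f)
    (hsl : ∀ (c : K₁) (x : V₁), f (c • x) = σ c • f x) :
    Module.length K₁ V₁ = Module.length K₂ V₂ := by
  haveI : RingHomSurjective σ := ⟨hσ⟩
  let f' : V₁ →ₛₗ[σ] V₂ := { toFun := f, map_add' := map_add f, map_smul' := hsl }
  rw [Module.length, Module.length, WithBot.unbot_inj,
    Order.krullDim_eq_of_orderIso (Submodule.orderIsoMapComapOfBijective f' hf)]

end Semi

section Std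

variable (k : Type u) [Field k] (n : ℕ)
variable {M : Type u} [AddCommGroup M] [Module k M] [Module (MvPolynomial (Fin n) k) M]
  [IsScalarTower k (MvPolynomial (Fin n) k) M]
  (ℳ : ℤ → Submodule k M) [DirectSum.Decomposition ℳ]
  [SetLike.GradedSMul (GrSyz.stdGr k (Fin n)) ℳ]

local notation "S" => MvPolynomial (Fin n) k
local notation "𝒜₀" => GrSyz.stdGr k (Fin n)
local notation "𝔪₀" => GrSyz.irrel (GrSyz.stdGr k (Fin n))

lemma C_mem_zero (c : k) : (MvPolynomial.C c : S) ∈ 𝒜₀ 0 := by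
  rw [stdGr_zero, Submodule.mem_span_singleton]
  exact ⟨c, by rw [MvPolynomial.smul_eq_C_mul, mul_one]⟩

/-- the field maps onto the degree zero subring -/
noncomputable def sigma : k →+* GrLC.deg0 (Trans.toAG 𝒜₀) :=
  (MvPolynomial.C : k →+* S).codRestrict (GrLC.deg0 (Trans.toAG 𝒜₀)) (fun c => C_mem_zero k n c)

lemma sigma_coe (c : k) : ((sigma k n c : GrLC.deg0 (Trans.toAG 𝒜₀)) : S) = MvPolynomial.C c := rfl

lemma sigma_surjective : Function.Surjective (sigma k n) := by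
  rintro ⟨r, hr⟩
  have hr' : r ∈ 𝒜₀ 0 := hr
  rw [stdGr_zero, Submodule.mem_span_singleton] at hr'
  obtain ⟨c, rfl⟩ := hr'
  refine ⟨c, Subtype.ext ?_⟩
  show (MvPolynomial.C c : S) = c • (1 : S)
  rw [MvPolynomial.smul_eq_C_mul, mul_one]

lemma isArtinianRing_deg0 : IsArtinianRing (GrLC.deg0 (Trans.toAG 𝒜₀)) :=
  (sigma_surjective k n).isArtinianRing

/-- the Hilbert function over the degree zero subring is the dimension over the field -/
lemma hf_eq_finrank (d : ℤ) :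
    hf (Trans.toAG 𝒜₀) (XM k n ℳ) d = (Module.finrank k ↥(ℳ d) : ℤ) := by
  have h1 : Module.length k ↥(ℳ d) =
      Module.length (GrLC.deg0 (Trans.toAG 𝒜₀)) (GrLC.comp (Trans.toAG 𝒜₀) (Trans.toAG ℳ) d) := by
    refine length_eq_of_semilinear (sigma k n) (sigma_surjective k n)
      (V₁ := ↥(ℳ d)) (V₂ := ↥(GrLC.comp (Trans.toAG 𝒜₀) (Trans.toAG ℳ) d))
      { toFun := fun x => ⟨x.1, x.2⟩, map_zero' := rfl, map_add' := fun _ _ => rfl }
      ⟨fun x y hxy => Subtype.ext (congrArg Subtype.val hxy), fun y => ⟨⟨y.1, y.2⟩, rfl⟩⟩ ?_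
    intro c x
    apply Subtype.ext
    change c • (x : M) = (MvPolynomial.C c : S) • (x : M)
    rw [← MvPolynomial.algebraMap_eq, algebraMap_smul]
  unfold hf ilen
  change ((Module.length (GrLC.deg0 (Trans.toAG 𝒜₀))
    (GrLC.comp (Trans.toAG 𝒜₀) (Trans.toAG ℳ) d)).toNat : ℤ) = _
  rw [← h1, Module.length_eq_rank]
  rfl

end Std

section Main

/-- the statement of S16324 -/
theorem main_16324 (k : Type u) [Field k] [IsAlgClosed k] [CharZero k] (n : ℕ)
    (M : Type u) [AddCommGroup M] [Module k M] [Module (MvPolynomial (Fin (n + 1)) k) M]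
    [IsScalarTower k (MvPolynomial (Fin (n + 1)) k) M]
    [Module.Finite (MvPolynomial (Fin (n + 1)) k) M]
    (ℳ : ℤ → Submodule k M) [DirectSum.Decomposition ℳ]
    [SetLike.GradedSMul (GrSyz.stdGr k (Fin (n + 1))) ℳ]
    (hCM : Module.supportDim (MvPolynomial (Fin (n + 1)) k) M =
      ((LocCoh.idealDepth (GrSyz.irrel (GrSyz.stdGr k (Fin (n + 1)))).toIdeal M : ℕ∞) :
        WithBot ℕ∞))
    (F : GrSyz.FreeRes (GrSyz.stdGr k (Fin (n + 1))) ℳ)
    (hF : F.IsMinimal (GrSyz.irrel (GrSyz.stdGr k (Fin (n + 1)))).toIdeal)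
    (ℓ : ℕ) (hℓ : F.HasLengthLE ℓ) (hℓ' : F.rk ℓ ≠ 0)
    (ρ : ℤ) (hρ : F.IsGenLE ρ) (hρ' : ∃ (i : ℕ) (b : Fin (F.rk i)), F.deg i b = ρ + i)
    (P : Polynomial ℚ)
    (hP : ∃ d₁ : ℤ, ∀ d : ℤ, d₁ ≤ d →
      ((Module.finrank k ↥(ℳ d) : ℤ) : ℚ) = P.eval (d : ℚ)) :
    ((Module.finrank k ↥(ℳ (ρ + ℓ - n - 1)) : ℤ) : ℚ) ≠
      P.eval ((ρ + ℓ - n - 1 : ℤ) : ℚ) := by
  classical
  haveI hArt : IsArtinianRing (GrLC.deg0 (Trans.toAG (GrSyz.stdGr k (Fin (n + 1))))) :=
    isArtinianRing_deg0 k (n + 1)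
  set 𝔪 : Ideal (MvPolynomial (Fin (n + 1)) k) :=
    (GrSyz.irrel (GrSyz.stdGr k (Fin (n + 1)))).toIdeal with h𝔪
  set a : HomogeneousIdeal (Trans.toAG (GrSyz.stdGr k (Fin (n + 1)))) :=
    Trans.idealToAG (GrSyz.stdGr k (Fin (n + 1))) (GrSyz.irrel (GrSyz.stdGr k (Fin (n + 1))))
    with hadef
  have ha𝔪 : a.toIdeal = 𝔪 := rfl
  have ha : a.toIdeal = Ideal.span (⋃ m ∈ Set.Ioi (0 : ℤ),
      ((Trans.toAG (GrSyz.stdGr k (Fin (n + 1))) m : AddSubgroup _) : Set _)) :=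
    Groth.Agent.S15419.Aux.irrel_toAG (GrSyz.stdGr k (Fin (n + 1)))
  have hstd := irrel_hhom k (n + 1)
  have hdimS : ringKrullDim (MvPolynomial (Fin (n + 1)) k) = ((n + 1 : ℕ) : WithBot ℕ∞) := by
    rw [MvPolynomial.ringKrullDim_of_isNoetherianRing, ringKrullDim_eq_zero_of_field, zero_add,
      Nat.card_fin]
  have hcd : LocCoh.CdLE _ a.toIdeal (n + 1) := cdLE_of_ringKrullDim_le a.toIdeal (n + 1) hdimS.le
  -- the depth is finite
  have hsd_le : Module.supportDim (MvPolynomial (Fin (n + 1)) k) M ≤ ((n + 1 : ℕ) : WithBot ℕ∞) :=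
    (Module.supportDim_le_ringKrullDim _ M).trans hdimS.le
  have hne : LocCoh.idealDepth 𝔪 M ≠ ⊤ := by
    intro h
    rw [h] at hCM
    rw [hCM] at hsd_le
    have h1 : ((⊤ : ℕ∞) : WithBot ℕ∞) ≤ (((n + 1 : ℕ) : ℕ∞) : WithBot ℕ∞) := hsd_le
    rw [WithBot.coe_le_coe] at h1
    exact absurd (top_le_iff.mp h1) (ENat.natCast_ne_top _)
  obtain ⟨D, hD⟩ := ENat.ne_top_iff_exists.mp hne
  have hJM : 𝔪 • (⊤ : Submodule (MvPolynomial (Fin (n + 1)) k) M) ≠ ⊤ := by
    intro h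
    apply hne
    unfold LocCoh.idealDepth
    rw [if_pos h]
  have hsd : Module.supportDim (MvPolynomial (Fin (n + 1)) k) M = ((D : ℕ∞) : WithBot ℕ∞) := by
    rw [hCM, ← hD]
  have hDle : D ≤ n + 1 := by
    rw [hsd] at hsd_le
    have h1 : ((D : ℕ∞) : WithBot ℕ∞) ≤ (((n + 1 : ℕ) : ℕ∞) : WithBot ℕ∞) := hsd_le
    rw [WithBot.coe_le_coe] at h1
    exact_mod_cast h1
  -- Auslander–Buchsbaum
  have hAB := Groth.Agent.S16323.result k n M ℳ F hF ℓ hℓ hℓ'
  have hℓD : ℓ + D = n + 1 := by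
    rw [← hD] at hAB
    exact_mod_cast hAB
  -- vanishing off the depth
  have hvan : ∀ (q : ℕ) (j : ℤ), q ≠ D → Van a (XM k (n + 1) ℳ) q j := by
    intro q j hq
    have hsub : Subsingleton (LocCoh.H a.toIdeal q M) := by
      rcases lt_or_gt_of_ne hq with hlt | hgt
      · apply subsingleton_of_lt_idealDepth a.toIdeal hJM q
        rw [ha𝔪, ← hD]
        exact_mod_cast hlt
      · apply subsingleton_of_supportDim_lt a.toIdeal M q
        rw [hsd]
        exact_mod_cast hgt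
    intro z _
    exact @Subsingleton.elim _ hsub _ _
  -- regularity
  have hS1 : SReg k (n + 1) ℳ ρ := (isGenLE_iff_sReg k (n + 1) ℳ F hF ρ).mp hρ
  have hS2 : ¬ SReg k (n + 1) ℳ (ρ - 1) := by
    intro h
    have h1 := (isGenLE_iff_sReg k (n + 1) ℳ F hF (ρ - 1)).mpr h
    obtain ⟨i, b, hib⟩ := hρ'
    have h2 := h1 i b
    omega
  unfold SReg at hS2
  push Not at hS2
  obtain ⟨q, j, hqj, hnv⟩ := hS2
  have hqD : q = D := by
    by_contra hne'
    exact hnv (hvan q j hne')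
  have hjle : j + q ≤ ρ := by
    by_contra hlt
    exact hnv (hS1 q j (by omega))
  have hj : j = ρ + ℓ - n - 1 := by
    have : (ℓ : ℤ) + D = n + 1 := by exact_mod_cast hℓD
    rw [hqD] at hqj hjle
    omega
  rw [← hj]
  subst hqD
  -- the pieces
  haveI hXfin : Module.Finite (MvPolynomial (Fin (n + 1)) k) (XM k (n + 1) ℳ).carrier :=
    ‹Module.Finite (MvPolynomial (Fin (n + 1)) k) M›
  have hzero : ∀ i : ℕ, i ≠ q → hl (Trans.toAG (GrSyz.stdGr k (Fin (n + 1)))) a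
      (XM k (n + 1) ℳ) i j = 0 := by
    intro i hi
    have hv := hvan i j hi
    haveI : Subsingleton (LCcomp (Trans.toAG (GrSyz.stdGr k (Fin (n + 1))))
        (XM k (n + 1) ℳ).gr a.toIdeal i j) := by
      refine ⟨fun x y => Subtype.ext ?_⟩
      rw [hv x.1 x.2, hv y.1 y.2]
    exact ilen_eq_zero_of_subsingleton
  have hnz : hl (Trans.toAG (GrSyz.stdGr k (Fin (n + 1)))) a (XM k (n + 1) ℳ) q j ≠ 0 := by
    intro h0
    have hfin := isFiniteLength_LCcomp (Trans.toAG (GrSyz.stdGr k (Fin (n + 1)))) a ha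
      (XM k (n + 1) ℳ) q j
    have hsub := (ilen_eq_zero_iff hfin).mp h0
    apply hnv
    intro z hz
    have := @Subsingleton.elim _ hsub (⟨z, hz⟩ : LCcomp (Trans.toAG (GrSyz.stdGr k (Fin (n + 1))))
      (XM k (n + 1) ℳ).gr a.toIdeal q j) 0
    exact congrArg Subtype.val this
  -- the formula
  have hP' : ∃ N : ℤ, ∀ m : ℤ, N ≤ m → P.eval (m : ℚ) =
      (hf (Trans.toAG (GrSyz.stdGr k (Fin (n + 1)))) (XM k (n + 1) ℳ) m : ℚ) := by
    obtain ⟨d₁, hd₁⟩ := hP
    refine ⟨d₁, fun m hm => ?_⟩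
    rw [hf_eq_finrank k (n + 1) ℳ m, hd₁ m hm]
  have key := gs_formula (Trans.toAG (GrSyz.stdGr k (Fin (n + 1)))) a ha hstd (n + 1) hcd
    (XM k (n + 1) ℳ) P hP' j
  rw [hf_eq_finrank k (n + 1) ℳ j] at key
  have hsum : lsum (Trans.toAG (GrSyz.stdGr k (Fin (n + 1)))) a (n + 1) (XM k (n + 1) ℳ) j =
      (-1 : ℤ) ^ q * hl (Trans.toAG (GrSyz.stdGr k (Fin (n + 1)))) a (XM k (n + 1) ℳ) q j := by
    unfold lsum
    apply Finset.sum_eq_single q
    · intro i _ hi
      rw [hzero i hi, mul_zero]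
    · intro hq
      exact absurd (Finset.mem_range.mpr (by omega)) hq
  rw [hsum] at key
  intro heq
  rw [heq, sub_self] at key
  have h1 : ((-1 : ℤ) ^ q * hl (Trans.toAG (GrSyz.stdGr k (Fin (n + 1)))) a
      (XM k (n + 1) ℳ) q j : ℤ) = 0 := by
    exact_mod_cast key.symm
  rcases mul_eq_zero.mp h1 with h2 | h2
  · exact absurd h2 (pow_ne_zero _ (by norm_num))
  · exact hnz h2

end Main

end Groth.Agent.Lib.Helper6.GSF
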